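import Mathlib

/-!
Extending a section defined on a dense open across a point whose local ring is a domain.
-/

universe u

open CategoryTheory Limits AlgebraicGeometry IsLocalRing

namespace Groth.Agent.SectionExt

set_option linter.unusedSimpArgs false

variable {X Y : Scheme.{u}}

/-- The generic point of the component through `x`, as a morphism. -/
noncomputable abbrev genMap (X : Scheme.{u}) (x : X) :
    Spec (CommRingCat.of (FractionRing (X.presheaf.stalk x))) ⟶ X :=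
  Spec.map (CommRingCat.ofHom (algebraMap (X.presheaf.stalk x) (FractionRing (X.presheaf.stalk x)))) ≫
    X.fromSpecStalk x

theorem subsingleton_spec (K : Type u) [Field K] : Subsingleton (Spec (CommRingCat.of K)) :=
  inferInstanceAs (Subsingleton (PrimeSpectrum K))

theorem exists_integral_nhd (x : X) [IsDomain (X.presheaf.stalk x)] [X.IsGermInjectiveAt x] (N : X.Opens)
    (hx : x ∈ N) :
    ∃ V : X.Opens, x ∈ V ∧ V ≤ N ∧ IsIntegral V.toScheme ∧
      ∀ O : X.Opens, ((O : Set X) ∩ V).Nonempty → Set.range (genMap X x) ⊆ O := by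
  obtain ⟨V, hxV, hV, hVN, hinj⟩ := X.exists_le_and_germ_injective x N hx
  have : IsDomain Γ(X, V) := hinj.isDomain (X.presheaf.germ V x hxV).hom
  have : Nonempty V.toScheme := ⟨⟨x, hxV⟩⟩
  refine ⟨V, hxV, hVN, isIntegral_of_isOpenImmersion hV.isoSpec.hom, ?_⟩
  intro O ⟨o, hoO, hoV⟩
  let K := FractionRing (X.presheaf.stalk x)
  let φ : Γ(X, V) ⟶ CommRingCat.of K :=
    X.presheaf.germ V x hxV ≫ CommRingCat.ofHom (algebraMap (X.presheaf.stalk x) K)
  have hfac : genMap X x = Spec.map φ ≫ hV.fromSpec := by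
    simp only [genMap, φ]
    rw [← IsAffineOpen.fromSpecStalk_eq_fromSpecStalk hV hxV, IsAffineOpen.fromSpecStalk]
    exact (Category.assoc _ _ _).symm.trans (congrArg (· ≫ hV.fromSpec) (Spec.map_comp _ _).symm)
  have hd : DenseRange (Spec.map φ) := by
    refine (PrimeSpectrum.denseRange_comap_iff_ker_le_nilRadical φ.hom).mpr ?_
    rw [(RingHom.injective_iff_ker_eq_bot _).mp
      (show Function.Injective φ.hom from (IsFractionRing.injective _ K).comp hinj)]
    exact bot_le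
  obtain ⟨p, hp⟩ : o ∈ Set.range hV.fromSpec := by rw [hV.range_fromSpec]; exact hoV
  obtain ⟨t, ht⟩ := hd.exists_mem_open (O.2.preimage hV.fromSpec.continuous) ⟨p, show hV.fromSpec p ∈ O from hp ▸ hoO⟩
  rintro _ ⟨t', rfl⟩
  obtain rfl := (subsingleton_spec K).elim t' t
  rw [hfac]
  exact ht

theorem range_genMap_subset (x : X) [IsDomain (X.presheaf.stalk x)] [X.IsGermInjectiveAt x] (U : X.Opens)
    (hU : Dense (U : Set X)) : Set.range (genMap X x) ⊆ U := by
  obtain ⟨V, hxV, -, -, h⟩ := exists_integral_nhd x ⊤ trivial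
  exact h U (by
    obtain ⟨p, hp, hp'⟩ := hU.inter_open_nonempty V V.2 ⟨x, hxV⟩
    exact ⟨p, hp', hp⟩)

/-- The covering of a union of two opens by the two opens. -/
noncomputable def twoCover (U V : X.Opens) : (U ⊔ V).toScheme.OpenCover :=
  Scheme.Cover.mkOfCovers (ULift.{u} Bool) (fun i ↦ (bif i.down then U else V).toScheme)
    (fun i ↦ X.homOfLE (show (bif i.down then U else V) ≤ U ⊔ V by rcases i with ⟨_ | _⟩ <;> simp))
    (fun p ↦ by
      rcases p.2 with hp | hp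
      · exact ⟨⟨true⟩, ⟨p.1, hp⟩, Subtype.ext (by simp)⟩
      · exact ⟨⟨false⟩, ⟨p.1, hp⟩, Subtype.ext (by simp)⟩)
    (fun _ ↦ inferInstance)

theorem hom_ext_two {U V : X.Opens} {a b : (U ⊔ V).toScheme ⟶ Y}
    (h1 : X.homOfLE le_sup_left ≫ a = X.homOfLE le_sup_left ≫ b)
    (h2 : X.homOfLE le_sup_right ≫ a = X.homOfLE le_sup_right ≫ b) : a = b :=
  (twoCover U V).hom_ext _ _ fun i ↦ match i with
    | ⟨true⟩ => h1
    | ⟨false⟩ => h2

/-- Gluing two morphisms which agree on the intersection. -/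
theorem exists_glue_two (U V : X.Opens) (a : U.toScheme ⟶ Y) (b : V.toScheme ⟶ Y)
    (h : X.homOfLE (inf_le_left : U ⊓ V ≤ U) ≫ a = X.homOfLE (inf_le_right : U ⊓ V ≤ V) ≫ b) :
    ∃ c : (U ⊔ V).toScheme ⟶ Y, X.homOfLE le_sup_left ≫ c = a ∧ X.homOfLE le_sup_right ≫ c = b := by
  let W : ULift.{u} Bool → X.Opens := fun i ↦ bif i.down then U else V
  have hW : ∀ i, W i ≤ U ⊔ V := by rintro ⟨_ | _⟩ <;> simp [W]
  let 𝒰 := twoCover U V
  let f : ∀ i, (W i).toScheme ⟶ Y := fun i ↦ match i with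
    | ⟨true⟩ => a
    | ⟨false⟩ => b
  have key : ∀ i j, X.homOfLE (inf_le_left : W i ⊓ W j ≤ W i) ≫ f i =
      X.homOfLE (inf_le_right : W i ⊓ W j ≤ W j) ≫ f j := by
    rintro ⟨_ | _⟩ ⟨_ | _⟩
    · rfl
    · show X.homOfLE (inf_le_left : V ⊓ U ≤ V) ≫ b = X.homOfLE (inf_le_right : V ⊓ U ≤ U) ≫ a
      rw [← X.homOfLE_homOfLE (inf_comm V U).le (inf_le_right : U ⊓ V ≤ V), Category.assoc, ← h,
        ← Category.assoc, X.homOfLE_homOfLE]
    · exact h
    · rfl
  have hcompat : ∀ i j : ULift.{u} Bool, pullback.fst (X.homOfLE (hW i)) (X.homOfLE (hW j)) ≫ f i =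
      pullback.snd (X.homOfLE (hW i)) (X.homOfLE (hW j)) ≫ f j := by
    intro i j
    have hc := congrArg (· ≫ (U ⊔ V).ι) (pullback.condition (f := X.homOfLE (hW i)) (g := X.homOfLE (hW j)))
    simp only [Category.assoc, Scheme.homOfLE_ι] at hc
    let l := IsOpenImmersion.lift (W i ⊓ W j).ι (pullback.fst (X.homOfLE (hW i)) (X.homOfLE (hW j)) ≫ (W i).ι) (by
      rintro _ ⟨p, rfl⟩
      rw [Scheme.Opens.range_ι]
      refine ⟨?_, ?_⟩
      · rw [Scheme.Hom.comp_apply]; exact Subtype.prop _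
      · rw [hc, Scheme.Hom.comp_apply]; exact Subtype.prop _)
    have h1 : l ≫ X.homOfLE inf_le_left = pullback.fst _ _ := by
      rw [← cancel_mono (W i).ι, Category.assoc, Scheme.homOfLE_ι]; exact IsOpenImmersion.lift_fac _ _ _
    have h2 : l ≫ X.homOfLE inf_le_right = pullback.snd _ _ := by
      rw [← cancel_mono (W j).ι, Category.assoc, Scheme.homOfLE_ι, ← hc]; exact IsOpenImmersion.lift_fac _ _ _
    rw [← h1, ← h2, Category.assoc, Category.assoc, key]
  exact ⟨𝒰.glueMorphisms f hcompat, 𝒰.ι_glueMorphisms f hcompat ⟨true⟩, 𝒰.ι_glueMorphisms f hcompat ⟨false⟩⟩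

/-- A retraction of the local rings from a partial one into the fraction field. -/
theorem exists_retraction {A B K : Type u} [CommRing A] [IsLocalRing A] [CommRing B] [IsLocalRing B] [Field K]
    (φ : A →+* B) [IsLocalHom φ] (alg : A →+* K) (halg : Function.Injective alg) (τ : B →+* K)
    (hτ : τ.comp φ = alg) (hr : τ.range ≤ alg.range) :
    ∃ σ : B →+* A, σ.comp φ = RingHom.id A ∧ alg.comp σ = τ ∧ IsLocalHom σ := by
  let e := RingEquiv.ofBijective alg.rangeRestrict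
    ⟨fun a b h ↦ halg (congrArg Subtype.val h), alg.rangeRestrict_surjective⟩
  let σ : B →+* A := e.symm.toRingHom.comp (τ.codRestrict alg.range fun b ↦ hr ⟨b, rfl⟩)
  have hσ : ∀ b, alg (σ b) = τ b := fun b ↦ congrArg Subtype.val (e.apply_symm_apply ⟨τ b, hr ⟨b, rfl⟩⟩)
  refine ⟨σ, RingHom.ext fun a ↦ halg ((hσ _).trans (RingHom.congr_fun hτ a)), RingHom.ext hσ, ⟨fun b hb ↦ ?_⟩⟩
  by_contra hu
  have h0 : τ (b - φ (σ b)) = 0 := by
    rw [map_sub, ← RingHom.comp_apply, hτ, hσ, sub_self]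
  have hk : b - φ (σ b) ∈ maximalIdeal B :=
    IsLocalRing.le_maximalIdeal (RingHom.ker_ne_top τ) h0
  have : φ (σ b) ∈ maximalIdeal B := by
    have := sub_mem ((mem_maximalIdeal b).mpr hu) hk
    rwa [sub_sub_cancel] at this
  exact this (hb.map φ)

theorem exists_fac_fromSpecStalk {R : CommRingCat.{u}} [IsLocalRing R] (f : Spec R ⟶ X) {x : X}
    (hx : f (closedPoint R) = x) :
    ∃ ψ : X.presheaf.stalk x ⟶ R, Spec.map ψ ≫ X.fromSpecStalk x = f := by
  subst hx
  exact ⟨_, Scheme.Spec_stalkClosedPointTo_fromSpecStalk f⟩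

/-- The main gluing step: a local retraction compatible at the generic point gives an extension. -/
theorem exists_extension (q : Y ⟶ X) [LocallyOfFiniteType q] (U : X.Opens) (hU : Dense (U : Set X))
    (h : U.toScheme ⟶ Y) (hh : h ≫ q = U.ι) (y₀ : Y) [IsDomain (X.presheaf.stalk (q y₀))]
    [X.IsGermInjectiveAt (q y₀)]
    (σ : Y.presheaf.stalk y₀ →+* X.presheaf.stalk (q y₀)) [IsLocalHom σ]
    (hσ : σ.comp (q.stalkMap y₀).hom = RingHom.id _)
    (eU : Spec (CommRingCat.of (FractionRing (X.presheaf.stalk (q y₀)))) ⟶ U.toScheme)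
    (heU : eU ≫ U.ι = genMap X (q y₀))
    (hgen : Spec.map (CommRingCat.ofHom ((algebraMap _ _).comp σ)) ≫ Y.fromSpecStalk y₀ = eU ≫ h)
    (W : Y.Opens) (hyW : y₀ ∈ W) [IsSeparated (W.ι ≫ q)] (N : X.Opens) (hxN : q y₀ ∈ N)
    (hN : ∀ p : U, (p : X) ∈ N → h p ∈ W) :
    ∃ (U' : X.Opens) (hUU' : U ≤ U') (hxU' : q y₀ ∈ U') (h' : U'.toScheme ⟶ Y),
      h' ≫ q = U'.ι ∧ X.homOfLE hUU' ≫ h' = h ∧ h' ⟨q y₀, hxU'⟩ = y₀ := by
  let x := q y₀
  let φ : Spec (X.presheaf.stalk x) ⟶ Y := Spec.map (CommRingCat.ofHom σ) ≫ Y.fromSpecStalk y₀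
  have hφq : φ ≫ q = X.fromSpecStalk x ≫ 𝟙 X := by
    have hc : (q.stalkMap y₀ ≫ CommRingCat.ofHom σ : X.presheaf.stalk (q y₀) ⟶ X.presheaf.stalk (q y₀)) = 𝟙 _ :=
      CommRingCat.hom_ext hσ
    calc φ ≫ q = Spec.map (CommRingCat.ofHom σ) ≫ Y.fromSpecStalk y₀ ≫ q := Category.assoc _ _ _
      _ = Spec.map (CommRingCat.ofHom σ) ≫ Spec.map (q.stalkMap y₀) ≫ X.fromSpecStalk (q y₀) :=
          congrArg _ (Scheme.SpecMap_stalkMap_fromSpecStalk q).symm
      _ = Spec.map (q.stalkMap y₀ ≫ CommRingCat.ofHom σ) ≫ X.fromSpecStalk (q y₀) :=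
          (Category.assoc _ _ _).symm.trans (congrArg (· ≫ _) (Spec.map_comp _ _).symm)
      _ = X.fromSpecStalk x ≫ 𝟙 X := (congrArg (fun f ↦ Spec.map f ≫ X.fromSpecStalk (q y₀)) hc).trans
          (((congrArg (· ≫ _) (Spec.map_id _)).trans (Category.id_comp _)).trans (Category.comp_id _).symm)
  obtain ⟨V, hxV, g, hg, hgq⟩ := spread_out_of_isGermInjective' (𝟙 X) q φ hφq
  rw [Category.comp_id] at hgq
  have hgx : g ⟨x, hxV⟩ = y₀ := by
    have h1 : (V.fromSpecStalkOfMem x hxV) (closedPoint _) = (⟨x, hxV⟩ : V) := by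
      apply V.ι.isOpenEmbedding.injective
      refine (Scheme.Hom.comp_apply _ _ _).symm.trans ?_
      rw [Scheme.Opens.fromSpecStalkOfMem_ι]
      exact Scheme.fromSpecStalk_closedPoint
    refine (congrArg g h1.symm).trans ((Scheme.Hom.comp_apply _ _ _).symm.trans
      ((congr($(hg.symm) (closedPoint _))).trans ?_))
    refine (Scheme.Hom.comp_apply _ _ _).trans ((congrArg _ ?_).trans Y.fromSpecStalk_closedPoint)
    exact IsLocalRing.comap_closedPoint σ
  obtain ⟨V', hxV', hV'N, hint, hgenO⟩ := exists_integral_nhd x (N ⊓ V.ι ''ᵁ (g ⁻¹ᵁ W))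
    ⟨hxN, ⟨⟨x, hxV⟩, (show g ⟨x, hxV⟩ ∈ W from hgx.symm ▸ hyW), rfl⟩⟩
  have hV'V : V' ≤ V := fun p hp ↦ by
    obtain ⟨r, -, rfl⟩ := (hV'N hp).2
    exact r.2
  let g' := X.homOfLE hV'V ≫ g
  have hg'q : g' ≫ q = V'.ι := by rw [Category.assoc, hgq, Scheme.homOfLE_ι]
  let T := U ⊓ V'
  let a := X.homOfLE (inf_le_left : T ≤ U) ≫ h
  let b := X.homOfLE (inf_le_right : T ≤ V') ≫ g'
  have hab : a = b := by
    obtain ⟨p, hpV, hpU⟩ := hU.inter_open_nonempty V' V'.2 ⟨x, hxV'⟩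
    have hTne : ((T : Set X) ∩ V').Nonempty := ⟨p, ⟨hpU, hpV⟩, hpV⟩
    have : Nonempty T.toScheme := ⟨⟨p, hpU, hpV⟩⟩
    have : IsIntegral T.toScheme := isIntegral_of_isOpenImmersion (X.homOfLE (inf_le_right : T ≤ V'))
    let eT := IsOpenImmersion.lift T.ι (genMap X x) (by rw [Scheme.Opens.range_ι]; exact hgenO T hTne)
    have heT : eT ≫ T.ι = genMap X x := IsOpenImmersion.lift_fac _ _ _
    have : IsDominant eT := ⟨by
      refine dense_iff_inter_open.mpr fun O hO ⟨o, ho⟩ ↦ ?_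
      let O' : X.Opens := T.ι ''ᵁ ⟨O, hO⟩
      have := hgenO O' ⟨T.ι o, ⟨o, ho, rfl⟩, o.2.2⟩ ⟨closedPoint _, rfl⟩
      obtain ⟨r, hrO, hr⟩ := this
      refine ⟨r, hrO, closedPoint _, T.ι.isOpenEmbedding.injective ?_⟩
      refine (Scheme.Hom.comp_apply _ _ _).symm.trans ?_
      rw [heT]
      exact hr.symm⟩
    have hta : eT ≫ a = eU ≫ h := by
      rw [← Category.assoc]
      congr 1
      rw [← cancel_mono U.ι, Category.assoc, Scheme.homOfLE_ι, heT, heU]
    have htb : eT ≫ b = eU ≫ h := by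
      rw [← hgen]
      have : eT ≫ X.homOfLE (inf_le_right : T ≤ V') ≫ X.homOfLE hV'V =
          Spec.map (CommRingCat.ofHom (algebraMap (X.presheaf.stalk x) (FractionRing (X.presheaf.stalk x)))) ≫
            V.fromSpecStalkOfMem x hxV := by
        rw [← cancel_mono V.ι]
        simp only [Category.assoc, Scheme.homOfLE_ι, Scheme.Opens.fromSpecStalkOfMem_ι]
        exact heT
      simp only [b, g', reassoc_of% this, ← hg, φ]
      exact (Category.assoc _ _ _).symm.trans (congrArg (· ≫ Y.fromSpecStalk y₀) (Spec.map_comp _ _).symm)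
    have haW : Set.range a ⊆ Set.range W.ι := by
      rintro _ ⟨r, rfl⟩
      rw [Scheme.Opens.range_ι, Scheme.Hom.comp_apply]
      refine hN _ ?_
      have hval : U.ι (X.homOfLE (inf_le_left : T ≤ U) r) = T.ι r := by
        rw [← Scheme.Hom.comp_apply, Scheme.homOfLE_ι]
      show U.ι (X.homOfLE (inf_le_left : T ≤ U) r) ∈ N
      rw [hval]
      exact (hV'N r.2.2).1
    have hbW : Set.range b ⊆ Set.range W.ι := by
      rintro _ ⟨r, rfl⟩
      rw [Scheme.Opens.range_ι]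
      obtain ⟨v, hv, hvr⟩ := (hV'N r.2.2).2
      have : X.homOfLE hV'V (X.homOfLE (inf_le_right : T ≤ V') r) = v := by
        apply V.ι.isOpenEmbedding.injective
        rw [← Scheme.Hom.comp_apply, Scheme.homOfLE_ι, ← Scheme.Hom.comp_apply, Scheme.homOfLE_ι]
        exact hvr.symm
      simp only [b, g', Scheme.Hom.comp_apply]
      exact (congrArg g this).symm ▸ hv
    rw [← IsOpenImmersion.lift_fac W.ι a haW, ← IsOpenImmersion.lift_fac W.ι b hbW]
    congr 1
    refine ext_of_isDominant_of_isSeparated (W.ι ≫ q) ?_ eT ?_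
    · rw [IsOpenImmersion.lift_fac_assoc, IsOpenImmersion.lift_fac_assoc]
      simp only [a, b, Category.assoc, hh, hg'q, Scheme.homOfLE_ι]
    · rw [← cancel_mono W.ι, Category.assoc, Category.assoc, IsOpenImmersion.lift_fac,
        IsOpenImmersion.lift_fac, hta, htb]
  obtain ⟨c, hca, hcb⟩ := exists_glue_two U V' h g' hab
  refine ⟨U ⊔ V', le_sup_left, (le_sup_right : V' ≤ U ⊔ V') hxV', c, ?_, hca, ?_⟩
  · refine hom_ext_two ?_ ?_
    · rw [reassoc_of% hca, Scheme.homOfLE_ι]; exact hh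
    · rw [reassoc_of% hcb, Scheme.homOfLE_ι]; exact hg'q
  · have hpt : X.homOfLE (le_sup_right : V' ≤ U ⊔ V') ⟨x, hxV'⟩ = ⟨x, (le_sup_right : V' ≤ U ⊔ V') hxV'⟩ :=
      Subtype.ext (by simp)
    refine (congrArg c hpt.symm).trans ((Scheme.Hom.comp_apply _ _ _).symm.trans ?_)
    rw [hcb]
    exact (Scheme.Hom.comp_apply _ _ _).trans ((congrArg g (Subtype.ext (by simp))).trans hgx)

end Groth.Agent.SectionExt
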