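import Groth.Agent.DvrDom.Basic
import Mathlib.RingTheory.IntegralClosure.IntegrallyClosed
import Mathlib.RingTheory.Valuation.LocalSubring

/-!
A normal Noetherian local domain is the intersection of the discrete valuation rings dominating it.
-/

universe u

namespace Groth.Agent.SectionExt

open IsLocalRing

theorem mem_range_of_forall_dvr (A : Type u) [CommRing A] [IsDomain A] [IsNoetherianRing A] [IsLocalRing A]
    [IsIntegrallyClosed A] (L : Type u) [Field L] [Algebra A L] [IsFractionRing A L] (z : L)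
    (H : ∀ R : ValuationSubring L, IsDiscreteValuationRing R → (∀ a, algebraMap A L a ∈ R) →
      (∀ a ∈ maximalIdeal A, R.valuation (algebraMap A L a) < 1) → z ∈ R) :
    z ∈ (algebraMap A L).range := by
  by_contra hz
  let C : Subring L := (algebraMap A L).range
  have : IsIntegrallyClosedIn C L := Subring.isIntegrallyClosedIn_iff.mpr fun {w} hw ↦ by
    refine IsIntegrallyClosed.isIntegral_iff.mp ?_
    obtain ⟨p, hp, hp'⟩ := hw
    obtain ⟨q, hq, -, hqm⟩ := Polynomial.lifts_and_degree_eq_and_monic (f := (algebraMap A L).rangeRestrict)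
      ((Polynomial.lifts_iff_coeff_lifts p).mpr fun n ↦ (algebraMap A L).rangeRestrict_surjective _) hp
    refine ⟨q, hqm, ?_⟩
    rw [← hq, Polynomial.eval₂_map] at hp'
    exact hp'
  obtain ⟨V, hCV, hzV⟩ := Subring.exists_le_valuationSubring_of_isIntegrallyClosedIn (R := C) (x := z) hz
  have hz0 : z ≠ 0 := fun h ↦ hzV (h ▸ V.zero_mem)
  have hxi : V.valuation z⁻¹ < 1 := by
    rw [← V.valuation_le_one_iff, not_le] at hzV
    rw [map_inv₀]
    exact inv_lt_one_of_one_lt₀ hzV
  let S : Subalgebra A L := Algebra.adjoin A {z⁻¹}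
  have hSV : ∀ w ∈ S, w ∈ V := fun w hw ↦ by
    induction hw using Algebra.adjoin_induction with
    | mem w hw =>
      rw [Set.mem_singleton_iff.mp hw]
      exact (V.valuation_le_one_iff _).mp hxi.le
    | algebraMap r => exact hCV ⟨r, rfl⟩
    | add a b _ _ ha hb => exact add_mem ha hb
    | mul a b _ _ ha hb => exact mul_mem ha hb
  have : IsNoetherianRing S.toSubring :=
    isNoetherianRing_of_fg (S := S) (Subalgebra.fg_def.mpr ⟨{z⁻¹}, Set.finite_singleton _, rfl⟩)
  let ι : S.toSubring →+* V := S.toSubring.subtype.codRestrict V.toSubring fun s ↦ hSV _ s.2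
  let Q : Ideal S.toSubring := (maximalIdeal V).comap ι
  have hQ : Q ≠ ⊤ := Ideal.comap_ne_top ι (maximalIdeal.isMaximal _).ne_top
  obtain ⟨n, hn, hQn⟩ := Ideal.exists_le_maximal Q hQ
  have hzS : z⁻¹ ∈ S := Algebra.subset_adjoin rfl
  have hzn : (⟨z⁻¹, hzS⟩ : S.toSubring) ∈ n :=
    hQn ((V.valuation_lt_one_iff ⟨z⁻¹, hSV _ hzS⟩).mpr hxi)
  let a' : A → S.toSubring := fun a ↦ ⟨algebraMap A L a, S.algebraMap_mem a⟩
  have hrep : ∀ w (hw : w ∈ S), ∃ a : A, (⟨w, hw⟩ : S.toSubring) - a' a ∈ n := fun w hw ↦ by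
    induction hw using Algebra.adjoin_induction with
    | mem w hw =>
      obtain rfl := Set.mem_singleton_iff.mp hw
      refine ⟨0, ?_⟩
      have : a' 0 = 0 := Subtype.ext (map_zero _)
      rw [this, sub_zero]; exact hzn
    | algebraMap r => exact ⟨r, by rw [show (⟨_, _⟩ : S.toSubring) = a' r from rfl, sub_self]; exact zero_mem _⟩
    | add p q hp hq ihp ihq =>
      obtain ⟨a, ha⟩ := ihp
      obtain ⟨b, hb⟩ := ihq
      refine ⟨a + b, ?_⟩
      convert add_mem ha hb using 1
      refine Subtype.ext ?_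
      simp only [a', map_add, AddSubgroupClass.coe_sub, Subring.coe_add]
      ring
    | mul p q hp hq ihp ihq =>
      obtain ⟨a, ha⟩ := ihp
      obtain ⟨b, hb⟩ := ihq
      refine ⟨a * b, ?_⟩
      convert add_mem (n.mul_mem_right ⟨q, hq⟩ ha) (n.mul_mem_left (a' a) hb) using 1
      refine Subtype.ext ?_
      simp only [a', map_mul, AddSubgroupClass.coe_sub, Subring.coe_add, Subring.coe_mul]
      ring
  have hm : ∀ a ∈ maximalIdeal A, a' a ∈ n := fun a ha ↦ by
    by_contra hna
    obtain ⟨s, i, hi, hsi⟩ := hn.exists_inv hna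
    obtain ⟨c, hc⟩ := hrep s.1 s.2
    have h1 : a' (c * a - 1) ∈ n := by
      have hp := sub_mem (n.mul_mem_right (a' a) (neg_mem hc)) hi
      convert hp using 1
      refine Subtype.ext ?_
      have := congrArg Subtype.val hsi
      simp only [a', Subring.coe_add, Subring.coe_mul, Subring.coe_one] at this
      simp only [a', map_sub, map_mul, map_one, AddSubgroupClass.coe_sub, Subring.coe_mul,
        NegMemClass.coe_neg]
      rw [← this]
      ring
    have hu : IsUnit (c * a - 1) := by
      by_contra hu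
      have : (1 : A) ∈ maximalIdeal A := by
        convert sub_mem ((maximalIdeal A).mul_mem_left c ha) ((mem_maximalIdeal _).mpr hu) using 1
        ring
      exact this isUnit_one
    exact hn.ne_top (n.eq_top_of_isUnit_mem h1 (hu.map
      ((algebraMap A L).codRestrict S.toSubring S.algebraMap_mem)))
  let D := LocalSubring.ofPrime S.toSubring n
  have : IsNoetherianRing D.toSubring := IsLocalization.isNoetherianRing n.primeCompl _ inferInstance
  have hSD : S.toSubring ≤ D.toSubring := LocalSubring.le_ofPrime _ _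
  have hmem : ∀ w (hw : w ∈ S.toSubring), (⟨w, hw⟩ : S.toSubring) ∈ n →
      (⟨w, hSD hw⟩ : D.toSubring) ∈ maximalIdeal D.toSubring := fun w hw h ↦
    (IsLocalization.AtPrime.to_map_mem_maximal_iff D.toSubring n ⟨w, hw⟩).mpr h
  have hD : ¬ IsField D.toSubring := fun hf ↦ by
    have := hmem _ hzS hzn
    rw [isField_iff_maximalIdeal_eq.mp hf, Ideal.mem_bot] at this
    exact inv_ne_zero hz0 (congrArg Subtype.val this)
  obtain ⟨R, hR, hDR, hRm⟩ := Groth.Agent.DvrDom.exists_dvr_dominating_of_fg D.toSubring hD L ∅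
    Set.finite_empty (by
      rw [eq_top_iff]
      intro w _
      obtain ⟨a, b, _, rfl⟩ := IsFractionRing.div_surjective (A := A) w
      exact div_mem (Subfield.subset_closure (Or.inl ⟨⟨_, hSD (S.algebraMap_mem a)⟩, rfl⟩))
        (Subfield.subset_closure (Or.inl ⟨⟨_, hSD (S.algebraMap_mem b)⟩, rfl⟩)))
  have h1 := H R hR (fun a ↦ hDR ⟨_, hSD (S.algebraMap_mem a)⟩)
    (fun a ha ↦ hRm _ (hmem _ (S.algebraMap_mem a) (hm a ha)))
  have h2 : R.valuation z⁻¹ < 1 := hRm _ (hmem _ hzS hzn)
  rw [map_inv₀] at h2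
  rw [← R.valuation_le_one_iff] at h1
  exact absurd h1 (not_le.mpr ((inv_lt_one₀ (zero_lt_iff.mpr
    ((Valuation.ne_zero_iff _).mpr hz0))).mp h2))

end Groth.Agent.SectionExt
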