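import Groth.Agent.SectionExt.Basic
import Groth.Agent.DvrDom.RationalPoint

/-!
The map on local rings attached to a partial section, and closures of locally closed sets.
-/

universe u

open CategoryTheory Limits AlgebraicGeometry IsLocalRing TopologicalSpace

namespace Groth.Agent.SectionExt

variable {X Y : Scheme.{u}}

/-- In a locally Noetherian scheme a point of the closure of a locally closed set is the
specialisation of a point of the set. -/
theorem exists_specializes_of_mem_closure [IsLocallyNoetherian X] (U : X.Opens) {K : Set X} (hK : IsClosed K)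
    {x : X} (hx : x ∈ closure ((U : Set X) ∩ K)) : ∃ u ∈ (U : Set X) ∩ K, u ⤳ x := by
  obtain ⟨SA, hSA, hxA, -⟩ := X.isBasis_affineOpens.exists_subset_of_mem_open (Set.mem_univ x) isOpen_univ
  obtain ⟨A, hA, rfl⟩ : ∃ V : X.Opens, IsAffineOpen V ∧ (V : Set X) = SA := hSA
  have : CompactSpace A.toScheme := isCompact_iff_compactSpace.mp hA.isCompact
  have : AlgebraicGeometry.IsNoetherian A.toScheme := {}
  let C := ((U : Set X) ∩ K) ∩ A
  have hemb : Topology.IsInducing (fun c : C ↦ (⟨c.1, c.2.2⟩ : A.toScheme)) :=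
    Topology.IsInducing.of_comp (Continuous.subtype_mk continuous_subtype_val _) continuous_subtype_val
      Topology.IsInducing.subtypeVal
  have hAN : NoetherianSpace A.toScheme := inferInstance
  have : NoetherianSpace C := @Topology.IsInducing.noetherianSpace _ _ _ _ hAN _ hemb
  have hxC : x ∈ closure C := by
    show x ∈ closure (((U : Set X) ∩ K) ∩ A)
    rw [Set.inter_comm]
    exact A.isOpen.inter_closure ⟨hxA, hx⟩
  have hcov : C = ⋃ Z ∈ irreducibleComponents C, Subtype.val '' Z := by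
    ext c
    simp only [Set.mem_iUnion, Set.mem_image]
    exact ⟨fun hc ↦ ⟨irreducibleComponent ⟨c, hc⟩, irreducibleComponent_mem_irreducibleComponents _,
      ⟨c, hc⟩, mem_irreducibleComponent, rfl⟩, fun ⟨_, _, c', _, e⟩ ↦ e ▸ c'.2⟩
  rw [hcov, (NoetherianSpace.finite_irreducibleComponents (α := C)).closure_biUnion] at hxC
  simp only [Set.mem_iUnion] at hxC
  obtain ⟨Z, hZ, hxZ⟩ := hxC
  have hirr : IsIrreducible (Subtype.val '' Z) := hZ.1.image _ continuous_subtype_val.continuousOn
  have hgen := hirr.closure.isGenericPoint_genericPoint isClosed_closure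
  refine ⟨_, ⟨?_, ?_⟩, hgen.specializes hxZ⟩
  · obtain ⟨c, hc⟩ := hirr.nonempty
    obtain ⟨c', hc', rfl⟩ := hc
    exact (hgen.mem_open_set_iff U.isOpen).mpr ⟨c'.1, subset_closure ⟨c', hc', rfl⟩, c'.2.1.1⟩
  · refine closure_minimal ?_ hK hgen.mem
    rintro _ ⟨c', -, rfl⟩
    exact c'.2.1.2

/-- The homomorphism into the function field attached to a lift of the generic point. -/
theorem exists_tau' (p : Y ⟶ X) (w₀ : Y) [IsDomain (X.presheaf.stalk (p w₀))]
    (t : Spec (CommRingCat.of (FractionRing (X.presheaf.stalk (p w₀)))) ⟶ Y)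
    (ht : t ≫ p = genMap X (p w₀)) (hsp : t (closedPoint _) ⤳ w₀) :
    ∃ τ : Y.presheaf.stalk w₀ →+* FractionRing (X.presheaf.stalk (p w₀)),
      τ.comp (p.stalkMap w₀).hom = algebraMap _ _ ∧
        Spec.map (CommRingCat.ofHom τ) ≫ Y.fromSpecStalk w₀ = t := by
  obtain ⟨φ, hφ⟩ := DvrDom.exists_fac_descResidueField t rfl
  let τ := Y.presheaf.stalkSpecializes hsp ≫ Y.residue _ ≫ φ
  have hτ : Spec.map τ ≫ Y.fromSpecStalk w₀ = t := by
    refine Eq.trans ?_ hφ
    simp only [τ, Spec.map_comp, Category.assoc, Scheme.SpecMap_stalkSpecializes_fromSpecStalk,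
      Scheme.fromSpecResidueField]
  refine ⟨τ.hom, ?_, hτ⟩
  have : p.stalkMap w₀ ≫ τ = CommRingCat.ofHom (algebraMap (X.presheaf.stalk (p w₀))
      (FractionRing (X.presheaf.stalk (p w₀)))) := by
    apply Spec.map_injective
    refine (cancel_mono (X.fromSpecStalk (p w₀))).mp ?_
    refine ((congrArg (· ≫ _) (Spec.map_comp _ _)).trans (Category.assoc _ _ _)).trans ?_
    rw [Scheme.SpecMap_stalkMap_fromSpecStalk, reassoc_of% hτ]
    exact ht
  exact RingHom.ext fun a ↦ congr($(this).hom a)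

/-- The homomorphism into the function field attached to a partial section specialising to `y₀`. -/
theorem exists_tau (q : Y ⟶ X) (U : X.Opens) (h : U.toScheme ⟶ Y) (hh : h ≫ q = U.ι) (y₀ : Y)
    [IsDomain (X.presheaf.stalk (q y₀))]
    (eU : Spec (CommRingCat.of (FractionRing (X.presheaf.stalk (q y₀)))) ⟶ U.toScheme)
    (heU : eU ≫ U.ι = genMap X (q y₀)) (hsp : (eU ≫ h) (closedPoint _) ⤳ y₀) :
    ∃ τ : Y.presheaf.stalk y₀ →+* FractionRing (X.presheaf.stalk (q y₀)),
      τ.comp (q.stalkMap y₀).hom = algebraMap _ _ ∧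
        Spec.map (CommRingCat.ofHom τ) ≫ Y.fromSpecStalk y₀ = eU ≫ h := by
  obtain ⟨φ, hφ⟩ := DvrDom.exists_fac_descResidueField (eU ≫ h) rfl
  let τ := Y.presheaf.stalkSpecializes hsp ≫ Y.residue _ ≫ φ
  have hτ : Spec.map τ ≫ Y.fromSpecStalk y₀ = eU ≫ h := by
    refine Eq.trans ?_ hφ
    simp only [τ, Spec.map_comp, Category.assoc, Scheme.SpecMap_stalkSpecializes_fromSpecStalk,
      Scheme.fromSpecResidueField]
  refine ⟨τ.hom, ?_, hτ⟩
  have : q.stalkMap y₀ ≫ τ = CommRingCat.ofHom (algebraMap (X.presheaf.stalk (q y₀))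
      (FractionRing (X.presheaf.stalk (q y₀)))) := by
    apply Spec.map_injective
    refine (cancel_mono (X.fromSpecStalk (q y₀))).mp ?_
    refine ((congrArg (· ≫ _) (Spec.map_comp _ _)).trans (Category.assoc _ _ _)).trans ?_
    rw [Scheme.SpecMap_stalkMap_fromSpecStalk, reassoc_of% hτ, hh]
    exact heU
  exact RingHom.ext fun a ↦ congr($(this).hom a)

end Groth.Agent.SectionExt
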