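import Groth.Agent.SectionExt.Setup
import Mathlib

/-!
Zariski's Main Theorem makes a birational quasi-finite point over a normal point rational.
-/

universe u

open CategoryTheory Limits AlgebraicGeometry IsLocalRing

namespace Groth.Agent.SectionExt

variable {X Y : Scheme.{u}}

theorem range_le_of_locallyQuasiFinite (q : Y ⟶ X) [LocallyOfFiniteType q] [LocallyQuasiFinite q] (y₀ : Y)
    [IsDomain (X.presheaf.stalk (q y₀))] [IsIntegrallyClosed (X.presheaf.stalk (q y₀))]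
    (τ : Y.presheaf.stalk y₀ →+* FractionRing (X.presheaf.stalk (q y₀)))
    (hτ : τ.comp (q.stalkMap y₀).hom = algebraMap _ _) :
    τ.range ≤ (algebraMap (X.presheaf.stalk (q y₀)) (FractionRing (X.presheaf.stalk (q y₀)))).range := by
  let A := X.presheaf.stalk (q y₀)
  let K := FractionRing A
  obtain ⟨SV, hSV, hxV, -⟩ := X.isBasis_affineOpens.exists_subset_of_mem_open (Set.mem_univ (q y₀)) isOpen_univ
  obtain ⟨V, hV, rfl⟩ : ∃ U : X.Opens, IsAffineOpen U ∧ (U : Set X) = SV := hSV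
  obtain ⟨SW, hSW, hyW, hWV⟩ := Y.isBasis_affineOpens.exists_subset_of_mem_open
    (show y₀ ∈ q ⁻¹ᵁ V from hxV) (q ⁻¹ᵁ V).isOpen
  obtain ⟨W, hW, rfl⟩ : ∃ U : Y.Opens, IsAffineOpen U ∧ (U : Set Y) = SW := hSW
  let F := q.appLE V W hWV
  have hft : F.hom.FiniteType := HasRingHomProperty.appLE (P := @LocallyOfFiniteType) q ‹_› ⟨V, hV⟩ ⟨W, hW⟩ hWV
  have hqf : F.hom.QuasiFinite := HasRingHomProperty.appLE (P := @LocallyQuasiFinite) q ‹_› ⟨V, hV⟩ ⟨W, hW⟩ hWV
  let gV := X.presheaf.germ V (q y₀) hxV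
  let gW := Y.presheaf.germ W y₀ hyW
  have hnat : F ≫ gW = gV ≫ q.stalkMap y₀ := by
    simp only [F, gW, gV, Scheme.Hom.appLE, Category.assoc, TopCat.Presheaf.germ_res]
    exact (Scheme.Hom.germ_stalkMap q V y₀ hxV).symm
  algebraize [F.hom]
  let p := (hW.primeIdealOf ⟨y₀, hyW⟩).asIdeal
  haveI : Algebra.QuasiFiniteAt Γ(X, V) p := inferInstance
  obtain ⟨r, hr, hrint, hall⟩ :=
    Algebra.zariskisMainProperty_iff.mp (Algebra.ZariskisMainProperty.of_finiteType (R := Γ(X, V)) p)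
  letI : Algebra Γ(Y, W) (Y.presheaf.stalk y₀) := (Y.presheaf.germ W y₀ hyW).hom.toAlgebra
  haveI : IsLocalization.AtPrime (Y.presheaf.stalk y₀) p := hW.isLocalization_stalk ⟨y₀, hyW⟩
  let τ₀ : Γ(Y, W) →+* K := τ.comp gW.hom
  let alg := algebraMap A K
  have hcompat : τ₀.comp (algebraMap Γ(X, V) Γ(Y, W)) = alg.comp gV.hom := by
    have : gW.hom.comp F.hom = (q.stalkMap y₀).hom.comp gV.hom := congr($(hnat).hom)
    show (τ.comp gW.hom).comp F.hom = _
    rw [RingHom.comp_assoc, this, ← RingHom.comp_assoc, hτ]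
  have hint : ∀ z : Γ(Y, W), IsIntegral Γ(X, V) z → τ₀ z ∈ alg.range := by
    rintro z ⟨P, hP, hPz⟩
    refine IsIntegrallyClosed.isIntegral_iff.mp ⟨P.map gV.hom, hP.map _, ?_⟩
    rw [Polynomial.eval₂_map, ← hcompat, ← Polynomial.hom_eval₂, hPz, map_zero]
  have hunit : ∀ z : Y.presheaf.stalk y₀, IsUnit z → ∀ a, τ z = alg a → IsUnit a := by
    intro z hz a hza
    refine isUnit_of_map_unit (q.stalkMap y₀).hom a ?_
    by_contra hu
    have h0 : τ (z - (q.stalkMap y₀).hom a) = 0 := by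
      rw [map_sub, ← RingHom.comp_apply, hτ, hza, sub_self]
    have hm : z - (q.stalkMap y₀).hom a ∈ maximalIdeal _ :=
      IsLocalRing.le_maximalIdeal (RingHom.ker_ne_top τ) h0
    have := add_mem hm ((mem_maximalIdeal _).mpr hu)
    rw [sub_add_cancel] at this
    exact this hz
  have hgr : IsUnit (gW.hom r) :=
    (IsLocalization.AtPrime.isUnit_to_map_iff (Y.presheaf.stalk y₀) p r).mpr hr
  obtain ⟨a, ha⟩ := hint r hrint
  have hua : IsUnit a := hunit _ hgr a ha.symm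
  have hW₀ : ∀ b, τ₀ b ∈ alg.range := by
    intro b
    obtain ⟨m, hm⟩ := hall b
    obtain ⟨c, hc⟩ := hint _ hm
    refine ⟨c * ↑(hua.unit⁻¹) ^ m, ?_⟩
    have h1 : alg a ^ m * τ₀ b = alg c := by rw [hc, map_mul, map_pow, ha]
    rw [map_mul, map_pow, ← h1, mul_comm (alg a ^ m), mul_assoc, ← mul_pow, ← map_mul,
      IsUnit.mul_val_inv, map_one, one_pow, mul_one]
  rintro _ ⟨z, rfl⟩
  obtain ⟨⟨b, s⟩, hbs⟩ := IsLocalization.surj p.primeCompl z
  have hs : IsUnit (gW.hom s.1) := IsLocalization.map_units (Y.presheaf.stalk y₀) s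
  obtain ⟨c, hc⟩ := hW₀ s.1
  obtain ⟨d, hd⟩ := hW₀ b
  have huc : IsUnit c := hunit _ hs c hc.symm
  refine ⟨d * ↑huc.unit⁻¹, ?_⟩
  have h2 : τ z * alg c = alg d := by
    rw [hc, hd]
    exact (map_mul τ _ _).symm.trans (congrArg τ hbs)
  rw [map_mul, ← h2, mul_assoc, ← map_mul, IsUnit.mul_val_inv, map_one, mul_one]

end Groth.Agent.SectionExt
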